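import Cfsg.Agent.Lib.Sporadic.FiTransfer.PLocal.Tap

/-!
Seven pairwise commuting transpositions of Fi22 with trivial product: an odd relation.
-/

set_option autoImplicit false
set_option maxRecDepth 100000
set_option maxHeartbeats 0

open Cfsg.Spor

namespace CfsgLib.Sporadic.FiTransfer.DoubleLift

open CfsgLib.Sporadic.CosetCert
open CfsgLib.Sporadic.CosetCert.FiP
open CfsgLib.Sporadic.CosetCert.FiP.OutFi22
open CfsgLib.Sporadic.FiTransfer.PLocal

/-- The points of the seven transpositions. -/
def heptad : List ℕ := [0, 6, 40, 43, 47, 59, 472]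

theorem heptad_lt : heptad.all (fun q => Nat.blt q 3510) = true := by decide +kernel
theorem heptad_rel : heptad.all (fun q => heptad.all fun r => rel q r) = true := by decide +kernel
theorem heptad_trivial : agreeK (taps heptad) id = true := by decide +kernel

theorem dpProd_eq_prod : ∀ qs : List ℕ, dpProd qs = (qs.reverse.map fun q => dp (pnt q)).prod
  | [] => rfl
  | q :: t => by
    rw [dpProd, dpProd_eq_prod t, List.reverse_cons, List.map_append, List.prod_append]
    simp

/-- Seven pairwise commuting members of the class with trivial product. -/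
theorem odd_relation : ∃ l : List Fi22, l.length = 7 ∧ (∀ a ∈ l, a ∈ classTr) ∧
    (∀ a ∈ l, ∀ b ∈ l, Commute a b) ∧ l.prod = 1 := by
  have hlt : ∀ q ∈ heptad, q < 3510 := fun q hq =>
    Nat.le_of_ble_eq_true (List.all_eq_true.1 heptad_lt q hq)
  refine ⟨heptad.reverse.map fun q => dp (pnt q), by simp [heptad], ?_, ?_, ?_⟩
  · intro a ha
    obtain ⟨q, -, rfl⟩ := List.mem_map.1 ha
    rw [classTr_eq]
    exact ⟨_, rfl⟩
  · intro a ha b hb
    obtain ⟨q, hq, rfl⟩ := List.mem_map.1 ha
    obtain ⟨r, hr, rfl⟩ := List.mem_map.1 hb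
    rw [List.mem_reverse] at hq hr
    rw [commute_dp_iff]
    have := (rel_iff (pnt q) (pnt r)).1 (by
      rw [pnt_val (hlt q hq), pnt_val (hlt r hr)]
      exact List.all_eq_true.1 (List.all_eq_true.1 heptad_rel q hq) r hr)
    exact this
  · rw [← dpProd_eq_prod]
    exact eq_of_agree (img_dpProd heptad hlt) img_one heptad_trivial

end CfsgLib.Sporadic.FiTransfer.DoubleLift
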