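import Cfsg.Agent.Lib.Sporadic.FiTransfer.DoubleLift.Heptad
import Cfsg.Agent.Lib.Sporadic.FiUnitaryModel

/-!
Involutions of Fi22 in a double cover: the preimages of commuting transpositions commute, and
the preimages of a transposition are involutions, because seven commuting transpositions have
trivial product.
-/

set_option autoImplicit false
set_option maxRecDepth 100000

open Cfsg.Spor

namespace CfsgLib.Sporadic.FiTransfer.DoubleLift

open CfsgLib.Sporadic.CosetCert
open CfsgLib.Sporadic.CosetCert.FiP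
open CfsgLib.Sporadic.CosetCert.FiP.OutFi22
open CfsgLib.Sporadic.FiTransfer.PLocal

universe u v

theorem centralizer_tr_le : Subgroup.centralizer ({tr} : Set Fi22) ≤ grpH := by
  intro g hg
  have h : tr = dp pt := by
    rw [dp_pt]; exact (coding.gen_code Fi22.Gen.a).symm
  rw [Subgroup.mem_centralizer_singleton_iff] at hg
  refine mem_grpH_of_fix ((commute_dp_iff g pt).1 ?_)
  rw [← h]
  exact hg

variable {Q : Type u} [Group Q] {E : Set Q}

/-- The centralizer of a transposition of Fi22 has no quotient of order two. -/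
theorem centralizer_hom_trivial (h : ModelIso Q E) {a : Q} (ha : a ∈ E)
    (χ : ↥(Subgroup.centralizer ({a} : Set Q)) →* Multiplicative (ZMod 2))
    (x : ↥(Subgroup.centralizer ({a} : Set Q))) : χ x = 1 := by
  obtain ⟨e, he⟩ := h
  obtain ⟨k, hk⟩ := isConj_iff.1 ((mem_iff_of_image e he).1 ha)
  let φ : ↥grpH →* ↥(Subgroup.centralizer ({a} : Set Q)) :=
    ((e.symm.toMonoidHom.comp (MulAut.conj k).toMonoidHom).comp grpH.subtype).codRestrict _ fun g => by
      have hc : Commute (g : Fi22) tr := Subgroup.mem_centralizer_singleton_iff.1 (grpH_le g.2)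
      rw [Subgroup.mem_centralizer_singleton_iff]
      apply e.injective
      simp only [MonoidHom.coe_comp, MulEquiv.coe_toMonoidHom, Function.comp_apply, map_mul,
        MulEquiv.apply_symm_apply, MulAut.conj_apply, Subgroup.coe_subtype]
      rw [← hk]
      simp only [mul_assoc, inv_mul_cancel_left]
      rw [← mul_assoc (g : Fi22) tr, hc.eq, mul_assoc]
  obtain ⟨x, hx⟩ := x
  have hx' : Commute (e x) (e a) := (Commute.map (Subgroup.mem_centralizer_singleton_iff.1 hx : Commute x a) e.toMonoidHom)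
  have hg : k⁻¹ * e x * k ∈ grpH := centralizer_tr_le (by
    rw [Subgroup.mem_centralizer_singleton_iff]
    have := hx'.eq
    rw [← hk] at this
    calc k⁻¹ * e x * k * tr = k⁻¹ * (e x * (k * tr * k⁻¹)) * k := by group
      _ = k⁻¹ * ((k * tr * k⁻¹) * e x) * k := by rw [this]
      _ = tr * (k⁻¹ * e x * k) := by group)
  have : φ ⟨_, hg⟩ = ⟨x, hx⟩ := by
    refine Subtype.ext ?_
    show e.symm (k * (k⁻¹ * e x * k) * k⁻¹) = x
    rw [show k * (k⁻¹ * e x * k) * k⁻¹ = e x by group, MulEquiv.symm_apply_apply]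
  rw [← this]
  exact hom_two_trivial (χ.comp φ) _

variable {C : Type v} [Group C] (π : C →* Q) (d : C)
  (hker : ∀ z, π z = 1 → z = 1 ∨ z = d) (hd : π d = 1) (hd2 : d * d = 1) (hcen : ∀ g, Commute d g)

include hker hd hd2 hcen

/-- Preimages of commuting elements commute, the first being a member. -/
theorem lift_commute (hπ : Function.Surjective π) (h : ModelIso Q E) {u w : C} (hu : π u ∈ E)
    (huw : Commute (π u) (π w)) : Commute u w := by
  classical
  let c : C → C := fun g => u * g * u⁻¹ * g⁻¹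
  have hc : ∀ g, Commute (π u) (π g) → c g = 1 ∨ c g = d := fun g hg => hker _ (by
    simp only [c, map_mul, map_inv]
    rw [hg.eq]; group)
  have hcen' : ∀ g, Commute (π u) (π g) → ∀ y, Commute (c g) y := fun g hg y => by
    rcases hc g hg with e | e <;> rw [e]
    exacts [Commute.one_left y, hcen y]
  have hz : ∀ z, π z = 1 → ∀ g, c (g * z) = c g := by
    intro z hz g
    have hzc : ∀ y, Commute z y := fun y => by
      rcases hker z hz with e | e <;> rw [e]
      exacts [Commute.one_left y, hcen y]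
    show u * (g * z) * u⁻¹ * (g * z)⁻¹ = u * g * u⁻¹ * g⁻¹
    have e : z * u⁻¹ = u⁻¹ * z := hzc u⁻¹
    calc u * (g * z) * u⁻¹ * (g * z)⁻¹ = u * g * (z * u⁻¹) * z⁻¹ * g⁻¹ := by group
      _ = _ := by rw [e]; group
  let X := Subgroup.centralizer ({π u} : Set Q)
  have hX : ∀ x : ↥X, Commute (π u) (x : Q) := fun x =>
    (Subgroup.mem_centralizer_singleton_iff.1 x.2).symm
  choose s hs using hπ
  have hsX : ∀ x : ↥X, Commute (π u) (π (s x)) := fun x => (hs x).symm ▸ hX x
  let val : C → Multiplicative (ZMod 2) := fun y => if y = 1 then 1 else Multiplicative.ofAdd 1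
  have hmul : ∀ x y : ↥X, c (s (x * y : ↥X)) = c (s x) * c (s y) := by
    intro x y
    have e1 : π ((s x * s y)⁻¹ * s (x * y : ↥X)) = 1 := by
      rw [map_mul, map_inv, map_mul, hs, hs, hs, Subgroup.coe_mul, inv_mul_cancel]
    have := hz _ e1 (s x * s y)
    rw [mul_inv_cancel_left] at this
    rw [this]
    have e2 := (hcen' _ (hsX y) (s x)).eq
    calc c (s x * s y) = u * s x * u⁻¹ * (c (s y)) * (s x)⁻¹ := by simp only [c]; group
      _ = u * s x * u⁻¹ * ((s x)⁻¹ * (s x * c (s y))) * (s x)⁻¹ := by group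
      _ = c (s x) * c (s y) := by rw [← e2]; simp only [c]; group
  let χ : ↥X →* Multiplicative (ZMod 2) := MonoidHom.mk' (fun x => val (c (s x))) fun x y => by
    simp only [hmul]
    rcases hc _ (hsX x) with ex | ex <;> rcases hc _ (hsX y) with ey | ey <;> rw [ex, ey]
    · simp [val]
    · simp [val]
    · simp [val]
    · rw [hd2]
      by_cases e : d = 1
      · simp [val, e]
      · simp only [val, if_pos, if_neg e]
        decide
  have hw : π w ∈ X := Subgroup.mem_centralizer_singleton_iff.2 huw.symm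
  have h1 := centralizer_hom_trivial h hu χ ⟨π w, hw⟩
  have h2 : c (s (π w)) = 1 := by
    by_contra hne
    have : val (c (s (π w))) = 1 := h1
    simp only [val, if_neg hne] at this
    exact absurd this (by decide)
  have h3 := hz ((s (π w))⁻¹ * w) (by rw [map_mul, map_inv, hs, inv_mul_cancel]) (s (π w))
  rw [mul_inv_cancel_left, h2] at h3
  show u * w = w * u
  calc u * w = (u * w * u⁻¹ * w⁻¹) * (w * u) := by group
    _ = w * u := by rw [show u * w * u⁻¹ * w⁻¹ = 1 from h3, one_mul]

omit hd hd2 in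
/-- The square of a preimage of a member is the same for all members. -/
theorem sq_conj (hπ : Function.Surjective π) (hclass : ∀ a ∈ E, ∀ b ∈ E, ∃ g : Q, g * a * g⁻¹ = b)
    (hd2 : d * d = 1) {u v : C} (hu : π u ∈ E) (hv : π v ∈ E) (huu : u * u = 1 ∨ u * u = d) :
    v * v = u * u := by
  obtain ⟨g, hg⟩ := hclass _ hu _ hv
  obtain ⟨k, rfl⟩ := hπ g
  have : π ((k * u * k⁻¹)⁻¹ * v) = 1 := by simp only [map_mul, map_inv]; rw [hg]; group
  set z := (k * u * k⁻¹)⁻¹ * v with hzdef
  have hv' : v = k * u * k⁻¹ * z := by rw [hzdef]; group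
  have hzz : z * z = 1 := by rcases hker z this with e | e <;> rw [e] <;> simp [hd2]
  have hzc : ∀ y, Commute z y := fun y => by
    rcases hker z this with e | e <;> rw [e]
    exacts [Commute.one_left y, hcen y]
  rw [hv', (hzc _).mul_mul_mul_comm, hzz, mul_one]
  calc k * u * k⁻¹ * (k * u * k⁻¹) = k * (u * u) * k⁻¹ := by group
    _ = u * u := by
      rcases huu with e | e <;> rw [e]
      · group
      · rw [← (hcen k).eq]; group

/-- Preimages of a product of pairwise commuting members square to one. -/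
theorem lift_sq (hπ : Function.Surjective π) (h : ModelIso Q E)
    (hclass : ∀ a ∈ E, ∀ b ∈ E, ∃ g : Q, g * a * g⁻¹ = b) {l : List Q} (hl : ∀ a ∈ l, a ∈ E)
    (hcomm : ∀ a ∈ l, ∀ b ∈ l, Commute a b) {w : C} (hw : π w = l.prod) : w * w = 1 := by
  classical
  choose s hs using hπ
  have hπ' : Function.Surjective π := fun q => ⟨s q, hs q⟩
  have hself : ∀ u, π u ∈ E → u * u = 1 ∨ u * u = d := by
    intro u hu
    obtain ⟨e, he⟩ := h
    refine hker _ ?_
    rw [map_mul]
    apply e.injective
    rw [map_one, map_mul]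
    obtain ⟨k, hk⟩ := isConj_iff.1 ((mem_iff_of_image e he).1 hu)
    rw [← hk]
    calc k * tr * k⁻¹ * (k * tr * k⁻¹) = k * (tr * tr) * k⁻¹ := by group
      _ = 1 := by rw [tr_mul_self]; group
  have hlist : ∀ L : List Q, (∀ a ∈ L, a ∈ E) → (∀ a ∈ L, ∀ b ∈ L, Commute a b) → ∀ z : C,
      (∀ a ∈ L, s a * s a = z) → (L.map s).prod * (L.map s).prod = z ^ L.length := by
    intro L
    induction L with
    | nil => intro _ _ z _; simp
    | cons a t ih =>
      intro hE hC z hz
      have hat : Commute (s a) (t.map s).prod := Commute.list_prod_right _ _ fun b hb => by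
        obtain ⟨q, hq, rfl⟩ := List.mem_map.1 hb
        exact lift_commute π d hker hd hd2 hcen hπ' h (by rw [hs]; exact hE a List.mem_cons_self)
          (by rw [hs, hs]; exact hC a List.mem_cons_self q (List.mem_cons_of_mem _ hq))
      rw [List.map_cons, List.prod_cons, List.length_cons, pow_succ', hat.symm.mul_mul_mul_comm,
        hz a List.mem_cons_self, ih (fun b hb => hE b (List.mem_cons_of_mem _ hb))
          (fun b hb c hc => hC b (List.mem_cons_of_mem _ hb) c (List.mem_cons_of_mem _ hc)) z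
          fun b hb => hz b (List.mem_cons_of_mem _ hb)]
  have hmap : ∀ L : List Q, π (L.map s).prod = L.prod := by
    intro L
    rw [map_list_prod, List.map_map]
    conv_rhs => rw [← List.map_id L]
    exact congrArg List.prod (List.map_congr_left fun a _ => hs a)
  have hcen_sq : ∀ z, π z = 1 → z * z = 1 := fun z hz => by
    rcases hker z hz with e | e <;> rw [e]
    · exact one_mul 1
    · exact hd2
  -- every member has involutory preimages
  obtain ⟨L, hL7, hLE, hLC, hL1⟩ : ∃ L : List Q, L.length = 7 ∧ (∀ a ∈ L, a ∈ E) ∧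
      (∀ a ∈ L, ∀ b ∈ L, Commute a b) ∧ L.prod = 1 := by
    obtain ⟨L, h7, hE, hC, h1⟩ := odd_relation
    obtain ⟨e, he⟩ := h
    refine ⟨L.map e.symm, by simpa using h7, ?_, ?_, ?_⟩
    · intro a ha
      obtain ⟨b, hb, rfl⟩ := List.mem_map.1 ha
      rw [mem_iff_of_image e he, MulEquiv.apply_symm_apply]
      exact hE b hb
    · intro a ha b hb
      obtain ⟨p, hp, rfl⟩ := List.mem_map.1 ha
      obtain ⟨q, hq, rfl⟩ := List.mem_map.1 hb
      exact (hC p hp q hq).map e.symm.toMonoidHom
    · rw [← map_list_prod, h1, map_one]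
  obtain ⟨a₀, ha₀⟩ : ∃ a, a ∈ L := by
    cases L with
    | nil => simp at hL7
    | cons a _ => exact ⟨a, List.mem_cons_self⟩
  have hsame : ∀ a ∈ E, s a * s a = s a₀ * s a₀ := fun a ha =>
    sq_conj π d hker hcen hπ' hclass hd2 (by rw [hs]; exact hLE a₀ ha₀) (by rw [hs]; exact ha)
      (hself _ (by rw [hs]; exact hLE a₀ ha₀))
  have hε : s a₀ * s a₀ = 1 := by
    have h7 := hlist L hLE hLC _ fun a ha => hsame a (hLE a ha)
    rw [hcen_sq _ (by rw [hmap, hL1]), hL7] at h7
    rcases hself (s a₀) (by rw [hs]; exact hLE a₀ ha₀) with e | e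
    · exact e
    · rw [e] at h7 ⊢
      rw [show (7 : ℕ) = 2 * 3 + 1 from rfl, pow_succ, pow_mul, pow_two, hd2, one_pow, one_mul] at h7
      exact h7.symm
  have hz : π ((l.map s).prod⁻¹ * w) = 1 := by rw [map_mul, map_inv, hmap, hw, inv_mul_cancel]
  have hzc : Commute ((l.map s).prod⁻¹ * w) (l.map s).prod := by
    rcases hker _ hz with e | e <;> rw [e]
    exacts [Commute.one_left _, hcen _]
  have := hlist l hl hcomm 1 fun a ha => by rw [hsame a (hl a ha), hε]
  calc w * w = ((l.map s).prod * ((l.map s).prod⁻¹ * w)) * ((l.map s).prod * ((l.map s).prod⁻¹ * w)) := by group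
    _ = 1 := by rw [hzc.mul_mul_mul_comm, this, one_pow, hcen_sq _ hz, one_mul]

end CfsgLib.Sporadic.FiTransfer.DoubleLift
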