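import Cfsg.Agent.Lib.Sporadic.FiTransfer.DoubleLift.Setting
import Cfsg.Agent.Lib.Sporadic.FiTransfer.Transfer

/-!
A quasisimple centralizer of type M(22) modulo its involution is the presented Fi22.
-/

set_option autoImplicit false

namespace CfsgLib.Sporadic.FiTransfer.DoubleLift

universe u

theorem quotient_model {G : Type u} [Group G] [Finite G] (d : G)
    (hq : Cfsg.IsQuasisimple ↥(Subgroup.centralizer ({d} : Set G)))
    [((Subgroup.zpowers d).subgroupOf (Subgroup.centralizer ({d} : Set G))).Normal]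
    {E : Set (↥(Subgroup.centralizer ({d} : Set G)) ⧸
      (Subgroup.zpowers d).subgroupOf (Subgroup.centralizer ({d} : Set G)))}
    (hE : Cfsg.IsThreeTranspositionClass E) (ht : Cfsg.IsOfTypeM22 _ E) :
    ModelIso _ E ∧ ∀ a ∈ E, ∀ b ∈ E, ∃ g, g * a * g⁻¹ = b := by
  set C := Subgroup.centralizer ({d} : Set G)
  set N := (Subgroup.zpowers d).subgroupOf C
  have hN : N ≤ Subgroup.center C := by
    intro z hz
    rw [Subgroup.mem_center_iff]
    intro y
    obtain ⟨k, hk⟩ := Subgroup.mem_zpowers_iff.1 (Subgroup.mem_subgroupOf.1 hz)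
    refine Subtype.ext ?_
    show (y : G) * (z : G) = (z : G) * (y : G)
    rw [← hk]
    exact (Commute.zpow_right (Subgroup.mem_centralizer_singleton_iff.1 y.2 : Commute (y : G) d) k).eq
  haveI := quotient_simple hq hN ht.1
  obtain ⟨hG, hcls, hprim⟩ := model_of_simple hE ht
  exact ⟨modelIso hG hprim ht, hcls⟩

end CfsgLib.Sporadic.FiTransfer.DoubleLift
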