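import Cfsg.Agent.Lib.Sporadic.FiTransfer.DoubleLift.Setting

/-!
Involutions of Fi22 lift to involutions of a double cover, which has no square root of the centre.
-/

set_option autoImplicit false

namespace CfsgLib.Sporadic.FiTransfer.DoubleLift

universe u

/-- Every involution of the quotient lifts to an involution and the kernel's generator is no square. -/
theorem lift_row {G : Type u} [Group G] [Finite G] (d : G) (hd : orderOf d = 2)
    [((Subgroup.zpowers d).subgroupOf (Subgroup.centralizer ({d} : Set G))).Normal]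
    {E : Set (↥(Subgroup.centralizer ({d} : Set G)) ⧸
      (Subgroup.zpowers d).subgroupOf (Subgroup.centralizer ({d} : Set G)))}
    (hmodel : ModelIso _ E) (hclass : ∀ a ∈ E, ∀ b ∈ E, ∃ g, g * a * g⁻¹ = b)
    (hinv : ∀ x : ↥(Subgroup.centralizer ({d} : Set G)) ⧸
      (Subgroup.zpowers d).subgroupOf (Subgroup.centralizer ({d} : Set G)), orderOf x = 2 →
      ∃ l : List _, (∀ a ∈ l, a ∈ E) ∧ (∀ a ∈ l, ∀ b ∈ l, Commute a b) ∧ l.prod = x) :
    (∀ x : ↥(Subgroup.centralizer ({d} : Set G)) ⧸
        (Subgroup.zpowers d).subgroupOf (Subgroup.centralizer ({d} : Set G)), orderOf x = 2 →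
      ∃ y : ↥(Subgroup.centralizer ({d} : Set G)), orderOf y = 2 ∧
        (QuotientGroup.mk y : ↥(Subgroup.centralizer ({d} : Set G)) ⧸
          (Subgroup.zpowers d).subgroupOf (Subgroup.centralizer ({d} : Set G))) = x) ∧
      ¬ ∃ g : G, g ^ 2 = d := by
  set C := Subgroup.centralizer ({d} : Set G)
  set N := (Subgroup.zpowers d).subgroupOf C
  have hdd : d * d = 1 := by rw [← pow_two, ← hd, pow_orderOf_eq_one]
  have hd1 : d ≠ 1 := fun e => by rw [e, orderOf_one] at hd; norm_num at hd
  have hdC : d ∈ C := Subgroup.mem_centralizer_singleton_iff.2 rfl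
  let D : C := ⟨d, hdC⟩
  have hD2 : D * D = 1 := Subtype.ext hdd
  have hker : ∀ z : C, QuotientGroup.mk' N z = 1 → z = 1 ∨ z = D := by
    intro z hz
    rw [QuotientGroup.mk'_apply, QuotientGroup.eq_one_iff] at hz
    obtain ⟨k, hk⟩ := Subgroup.mem_zpowers_iff.1 (Subgroup.mem_subgroupOf.1 hz)
    rcases Int.even_or_odd k with ⟨m, rfl⟩ | ⟨m, rfl⟩
    · left; refine Subtype.ext ?_
      rw [← hk, ← two_mul, zpow_mul, zpow_two, hdd, one_zpow]; rfl
    · right; refine Subtype.ext ?_
      rw [← hk, zpow_add, zpow_mul, zpow_two, hdd, one_zpow, one_mul, zpow_one]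
  have hD : QuotientGroup.mk' N D = 1 := by
    rw [QuotientGroup.mk'_apply, QuotientGroup.eq_one_iff]
    exact Subgroup.mem_subgroupOf.2 (Subgroup.mem_zpowers d)
  have hcen : ∀ g : C, Commute D g := fun g =>
    Subtype.ext (Subgroup.mem_centralizer_singleton_iff.1 g.2).symm
  have hsq : ∀ x : C ⧸ N, orderOf x = 2 → ∀ w : C, QuotientGroup.mk' N w = x → w * w = 1 := by
    intro x hx w hw
    obtain ⟨l, hlE, hlC, hl⟩ := hinv x hx
    exact lift_sq (QuotientGroup.mk' N) D hker hD hD2 hcen (QuotientGroup.mk'_surjective N) hmodel hclass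
      hlE hlC (by rw [hw, hl])
  refine ⟨fun x hx => ?_, ?_⟩
  · obtain ⟨w, rfl⟩ := QuotientGroup.mk'_surjective N x
    refine ⟨w, orderOf_eq_prime (by rw [pow_two]; exact hsq _ hx w rfl) ?_, rfl⟩
    intro e; rw [e, map_one, orderOf_one] at hx; norm_num at hx
  · rintro ⟨g, hg⟩
    have hgd : g * g = d := by rw [← pow_two]; exact hg
    have hgC : g ∈ C := Subgroup.mem_centralizer_singleton_iff.2 (by rw [← hgd, mul_assoc])
    let w : C := ⟨g, hgC⟩
    have hww : w * w = D := Subtype.ext hgd
    have hx : orderOf (QuotientGroup.mk' N w) = 2 := by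
      refine orderOf_eq_prime (by rw [pow_two, ← map_mul, hww, hD]) fun e => ?_
      rcases hker w e with e' | e'
      · rw [e', one_mul] at hww
        exact hd1 (congrArg Subtype.val hww).symm
      · rw [e', hD2] at hww
        exact hd1 (congrArg Subtype.val hww).symm
    have := hsq _ hx w rfl
    rw [hww] at this
    exact hd1 (congrArg Subtype.val this)

end CfsgLib.Sporadic.FiTransfer.DoubleLift
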