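import Cfsg.Agent.Lib.Sporadic.FiTransfer.DoubleLift.Lift
import Cfsg.Agent.Lib.Sporadic.FischerPrimitive
import Cfsg.Prelude.Def_CaseTheorems

/-!
An involution with quasisimple centralizer whose quotient is of type M(22): the quotient is the
presented Fi22.
-/

set_option autoImplicit false

namespace CfsgLib.Sporadic.FiTransfer.DoubleLift

universe u

open Cfsg

variable {G : Type u} [Group G]

/-- The quotient of a quasisimple centralizer by its involution is simple when it has trivial centre. -/
theorem quotient_simple {C : Type u} [Group C] (hq : Cfsg.IsQuasisimple C) {N : Subgroup C} [N.Normal]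
    (hN : N ≤ Subgroup.center C) (hZ : Subgroup.center (C ⧸ N) = ⊥) : IsSimpleGroup (C ⧸ N) := by
  have hCN : Subgroup.center C = N := by
    refine le_antisymm (fun z hz => ?_) hN
    have h : (z : C ⧸ N) ∈ Subgroup.center (C ⧸ N) := by
      rw [Subgroup.mem_center_iff]
      intro y
      obtain ⟨y, rfl⟩ := QuotientGroup.mk_surjective y
      rw [← QuotientGroup.mk_mul, ← QuotientGroup.mk_mul, Subgroup.mem_center_iff.1 hz y]
    rw [hZ, Subgroup.mem_bot, QuotientGroup.eq_one_iff] at h
    exact h
  haveI := hq.2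
  exact (QuotientGroup.quotientMulEquivOfEq hCN.symm).isSimpleGroup

/-- A class of 3-transpositions generating a simple group of type M(22) is primitive: the group is Fi22. -/
theorem model_of_simple {Q : Type u} [Group Q] [Finite Q] [IsSimpleGroup Q] {E : Set Q}
    (hE : Cfsg.IsThreeTranspositionClass E) (ht : Cfsg.IsOfTypeM22 Q E) :
    Cfsg.IsThreeTranspositionGroup E ∧ (∀ a ∈ E, ∀ b ∈ E, ∃ g : Q, g * a * g⁻¹ = b) ∧
      Cfsg.IsPrimitiveUnderConj E := by
  obtain ⟨hset, ⟨x, hx, rfl⟩, hgen⟩ := hE
  have hG : Cfsg.IsThreeTranspositionGroup (conjugatesOf x) :=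
    ⟨hset, fun g y hy => IsConj.trans hy (isConj_iff.2 ⟨g, rfl⟩), hgen⟩
  have hcls : ∀ a ∈ conjugatesOf x, ∀ b ∈ conjugatesOf x, ∃ g : Q, g * a * g⁻¹ = b :=
    fun a ha b hb => isConj_iff.1 (IsConj.trans (IsConj.symm ha) hb)
  obtain ⟨hZ, a, ha, b, hb, hab, -⟩ := ht
  refine ⟨hG, hcls, FischerPrimitive.primitive hG hcls ⟨a, ha, b, hb, fun e => hab (e ▸ Commute.refl a)⟩ ?_ ?_⟩
  · have hne : commutator Q ≠ ⊥ := fun e => hab (commutatorElement_eq_one_iff_mul_comm.1
      ((Subgroup.mem_bot).1 (e ▸ (by rw [commutator_def]; exact Subgroup.commutator_mem_commutator trivial trivial))))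
    have hn : (commutator Q).Normal := inferInstance
    rcases hn.eq_bot_or_eq_top with e | e
    · exact absurd e hne
    · rw [e, ← commutator_def, e]
  · intro N hN hs hle
    rcases hN.eq_bot_or_eq_top with e | e
    · rw [e]; exact bot_le
    · exfalso
      subst e
      have htop : Group.IsSolvable Q := Group.isSolvable_of_surjective (f := (⊤ : Subgroup Q).subtype)
        (fun q => ⟨⟨q, trivial⟩, rfl⟩)
      exact hab (IsSimpleGroup.comm_iff_isSolvable.2 htop a b)

end CfsgLib.Sporadic.FiTransfer.DoubleLift
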